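import Groth.Prelude.Def_DRing2
import Groth.Agent.TriH.TruncFactor

/-!
Morphisms of two-term objects that are iso on `H^0` and epi on `H^{-1}`.
-/

set_option autoImplicit false
set_option linter.style.haveILetI false
universe u

open CategoryTheory CategoryTheory.Limits

attribute [local instance] HasDerivedCategory.standard

namespace Groth.Agent.TwoTerm

variable {R : Type u} [CommRing R]

/-- Precomposition with such a morphism is injective on maps to objects in degrees `≥ -1`. -/
theorem eq_zero_of_comp {K K' L : Dual.D R} (α : K ⟶ K')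
    (hK : ∀ i : ℤ, i ≠ -1 → i ≠ 0 → Subsingleton (Dual.HD R K i))
    (hK' : ∀ i : ℤ, i ≠ -1 → i ≠ 0 → Subsingleton (Dual.HD R K' i))
    (h0 : IsIso ((DerivedCategory.homologyFunctor (ModuleCat.{u} R) 0).map α))
    (h1 : Epi ((DerivedCategory.homologyFunctor (ModuleCat.{u} R) (-1)).map α))
    [L.IsGE (-1)] (g' : K' ⟶ L) (hg' : α ≫ g' = 0) : g' = 0 := by
  obtain ⟨C, g, w, hT⟩ := Pretriangulated.distinguished_cocone_triangle α
  haveI : IsIso ((DerivedCategory.homologyFunctor (ModuleCat.{u} R) 0).map α) := h0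
  have hz : ∀ (M : Dual.D R) (i : ℤ), Subsingleton (Dual.HD R M i) →
      IsZero ((DerivedCategory.homologyFunctor (ModuleCat.{u} R) i).obj M) :=
    fun M i h => ModuleCat.isZero_of_subsingleton _
  have hepi : ∀ i : ℤ, -1 ≤ i → Epi ((DerivedCategory.homologyFunctor (ModuleCat.{u} R) i).map α) := by
    intro i hi
    by_cases a : i = -1
    · subst a; exact h1
    by_cases b : i = 0
    · subst b; infer_instance
    exact (hz K' i (hK' i a b)).epi _
  have hmono : ∀ i : ℤ, 0 ≤ i → Mono ((DerivedCategory.homologyFunctor (ModuleCat.{u} R) i).map α) := by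
    intro i hi
    by_cases b : i = 0
    · subst b; infer_instance
    exact (hz K i (hK i (by lia) b)).mono _
  haveI : C.IsLE (-2) := by
    rw [DerivedCategory.isLE_iff]
    intro i hi
    refine (DerivedCategory.HomologySequence.exact₃ _ hT i (i + 1) rfl).isZero_of_both_zeros ?_ ?_
    · exact (DerivedCategory.HomologySequence.epi_homologyMap_mor₁_iff _ hT i).1 (hepi i (by lia))
    · exact (DerivedCategory.HomologySequence.mono_homologyMap_mor₁_iff _ hT i (i + 1) rfl).1
        (hmono (i + 1) (by lia))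
  obtain ⟨β, hβ⟩ := Pretriangulated.Triangle.yoneda_exact₂ _ hT g' hg'
  exact hβ.trans ((congrArg (_ ≫ ·) ((DerivedCategory.TStructure.t).zero_of_isLE_of_isGE β (-2) (-1)
    (by lia) ‹C.IsLE (-2)› ‹L.IsGE (-1)›)).trans comp_zero)

instance isGE_inD_shift_one (N : Type u) [AddCommGroup N] [Module R N] :
    DerivedCategory.IsGE ((Dual.inD R N)⟦(1 : ℤ)⟧) (-1) :=
  (DerivedCategory.TStructure.t).isGE_shift (Dual.inD R N) 0 1 (-1) (by lia)

end Groth.Agent.TwoTerm
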