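import Groth.Agent.TwoTerm.Ext
import Groth.Agent.DRingPC.TorAmp

/-!
Two-term representatives and their homology.
-/

set_option autoImplicit false
set_option linter.style.haveILetI false
universe u

open CategoryTheory CategoryTheory.Limits Groth.Agent.PCohLib Groth.Agent.DRingPC

attribute [local instance] HasDerivedCategory.standard

namespace Groth.Agent.TwoTerm

variable {A : Type u} [CommRing A]

/-- Truncating a representative in degrees `≤ 0` gives a two-term representative. -/
lemma twoTerm_of_rep {K : Dual.D A} {P : DRing.Cx A} (hz : ∀ i, 0 < i → IsZero (P.X i))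
    (e : DerivedCategory.Q.obj P ≅ K)
    (hK : ∀ i : ℤ, i ≠ -1 → i ≠ 0 → Subsingleton (Dual.HD A K i)) :
    DRing.VanishesOutside (P.truncGE (-1)) (-1) 0 ∧ Nonempty (DRing.toD (P.truncGE (-1)) ≅ K) := by
  refine ⟨fun i hi => ?_, ?_⟩
  · rcases hi with h | h
    · exact (P.truncGE (-1)).isZero_of_isStrictlyGE (-1) i h
    · exact (hz i h).of_iso (P.truncGEXIso (-1) i (by lia))
  · haveI : P.IsGE (-1) := (CochainComplex.isGE_iff P (-1)).2 fun i hi => by
      rw [HomologicalComplex.exactAt_iff_isZero_homology]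
      exact ((subsingleton_iff_isZero _).1 (hK i (by lia) (by lia))).of_iso
        ((homologyQIso P i).symm ≪≫ (DerivedCategory.homologyFunctor _ i).mapIso e)
    exact ⟨(asIso (DerivedCategory.Q.map (P.πTruncGE (-1)))).symm ≪≫ e⟩

/-- Objects with cohomology in degrees `-1, 0` have two-term representatives, projective in degree 0. -/
theorem exists_twoTerm_rep (K : Dual.D A)
    (hK : ∀ i : ℤ, i ≠ -1 → i ≠ 0 → Subsingleton (Dual.HD A K i)) :
    ∃ E : DRing.Cx A, DRing.VanishesOutside E (-1) 0 ∧ Module.Projective A (E.X 0) ∧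
      Nonempty (DRing.toD E ≅ K) := by
  haveI := isLE_of_subsingleton (K := K) (b := 0) (fun i hi => hK i (by lia) (by lia))
  obtain ⟨P, hP, hz, ⟨e⟩⟩ := exists_projective_rep A K 0
  obtain ⟨h1, h2⟩ := twoTerm_of_rep hz e hK
  haveI := hP 0
  exact ⟨_, h1, Module.Projective.of_equiv (P.truncGEXIso (-1) 0 (by lia)).symm.toLinearEquiv, h2⟩

/-- The cohomology of `K` through a representative. -/
noncomputable def homologyRepIso {E : DRing.Cx A} {K : Dual.D A} (e : DRing.toD E ≅ K) (i : ℤ) :
    (DerivedCategory.homologyFunctor (ModuleCat.{u} A) i).obj K ≅ E.homology i :=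
  (DerivedCategory.homologyFunctor _ i).mapIso e.symm ≪≫ homologyQIso E i

lemma subsingleton_HD_neg_one_iff {E : DRing.Cx A} {K : Dual.D A} (e : DRing.toD E ≅ K)
    (hE : DRing.VanishesOutside E (-1) 0) :
    Subsingleton (Dual.HD A K (-1)) ↔ Function.Injective (E.d (-1) 0).hom := by
  rw [subsingleton_iff_isZero, (homologyRepIso e (-1)).isZero_iff,
    ← HomologicalComplex.exactAt_iff_isZero_homology, E.exactAt_iff' (-2) (-1) 0 (by simp) (by simp),
    ← ModuleCat.mono_iff_injective]
  exact ShortComplex.exact_iff_mono _ ((hE (-2) (Or.inl (by lia))).eq_of_src _ _)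

/-- The degree zero cohomology is the cokernel of the differential. -/
noncomputable def HD_zero_equiv {E : DRing.Cx A} {K : Dual.D A} (e : DRing.toD E ≅ K)
    (hE : DRing.VanishesOutside E (-1) 0) :
    (E.X 0 ⧸ LinearMap.range (E.d (-1) 0).hom) ≃ₗ[A] Dual.HD A K 0 :=
  ((ModuleCat.cokernelIsoRangeQuotient (E.d (-1) 0)).symm ≪≫
    (colimit.isColimit _).coconePointUniqueUpToIso (E.opcyclesIsCokernel (-1) 0 (by simp)) ≪≫
    (E.isoHomologyι 0 1 (by simp) ((hE 1 (Or.inr (by lia))).eq_of_tgt _ _)).symm ≪≫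
    (homologyRepIso e 0).symm).toLinearEquiv

/-- Cocycles on a two-term complex are arbitrary maps. -/
lemma mem_cocyc_one {E : DRing.Cx A} (hE : DRing.VanishesOutside E (-1) 0) {N : ModuleCat.{u} A}
    (h : E.X (-(1 : ℤ)) →ₗ[A] N) : h ∈ Cocyc E 1 N := by
  rw [mem_cocyc, (hE (-(1 : ℤ) - 1) (Or.inl (by lia))).eq_of_src (E.d (-(1 : ℤ) - 1) (-(1 : ℤ))) 0]
  exact LinearMap.comp_zero h

/-- The tautological class of a two-term complex. -/
noncomputable def idCocyc {E : DRing.Cx A} (hE : DRing.VanishesOutside E (-1) 0) :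
    Cocyc E 1 (E.X (-1)) :=
  ⟨(LinearMap.id : E.X (-(1 : ℤ)) →ₗ[A] E.X (-1)), mem_cocyc_one hE _⟩

end Groth.Agent.TwoTerm
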