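import Groth.Agent.DRingPC.Ext
import Groth.Agent.DRingPC.TorAmp
import Groth.Agent.TriH.TruncFactor

/-!
Splitting off a truncation with projective representative.
-/

set_option autoImplicit false
set_option linter.style.haveILetI false
universe u

open CategoryTheory CategoryTheory.Limits Groth.Agent.PCohLib Groth.Agent.DRingPC

attribute [local instance] HasDerivedCategory.standard

namespace Groth.Agent.TwoTerm

variable {A : Type u} [CommRing A]

/-- Vanishing of a class out of a bounded above complex of projectives. -/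
lemma cls_eq_zero_imp {E : DRing.Cx A} {p : ℤ} {N : ModuleCat.{u} A} (b : ℤ)
    (hb : ∀ i, b < i → IsZero (E.X i)) (hE : ∀ i, Module.Projective A (E.X i)) (h : Cocyc E p N)
    (h0 : cls h = 0) : ∃ g : E.X (-p + 1) →ₗ[A] N, g ∘ₗ (E.d (-p) (-p + 1)).hom = h.1 := by
  haveI := isKProjective_of_mem (P := PR A) (PR.lift A) E hE b hb
  rw [cls, ← zero_comp (f := (singleShiftTarget p N).hom), cancel_mono] at h0
  have hq : (HomotopyCategory.quotient _ _).map (cocycMap h) =
      (HomotopyCategory.quotient _ _).map (0 : E ⟶ _) := by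
    refine (CochainComplex.IsKProjective.Qh_map_bijective E _).injective ?_
    rw [← cancel_mono ((DerivedCategory.quotientCompQhIso _).hom.app _)]
    have n := (DerivedCategory.quotientCompQhIso (ModuleCat.{u} A)).hom.naturality (cocycMap h)
    have n0 := (DerivedCategory.quotientCompQhIso (ModuleCat.{u} A)).hom.naturality
      (0 : E ⟶ (HomologicalComplex.single _ (ComplexShape.up ℤ) (-p)).obj N)
    refine n.trans (((congrArg _ ?_)).trans n0.symm)
    rw [h0, Functor.map_zero]
  let H := HomotopyCategory.homotopyOfEq _ _ hq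
  have hc := H.comm (-p)
  rw [dNext_eq _ (show (ComplexShape.up ℤ).Rel (-p) (-p + 1) from rfl),
    prevD_eq _ (show (ComplexShape.up ℤ).Rel (-p - 1) (-p) from by simp),
    HomologicalComplex.single_obj_d, comp_zero, add_zero, HomologicalComplex.zero_f, add_zero,
    cocycMap_f, Iso.comp_inv_eq, Category.assoc] at hc
  exact ⟨(H.hom (-p + 1) (-p) ≫
    (HomologicalComplex.singleObjXSelf (ComplexShape.up ℤ) (-p) N).hom).hom,
    by rw [← ModuleCat.hom_comp, ← Category.assoc]; exact (congrArg ModuleCat.Hom.hom hc).symm⟩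

/-- The class of a coboundary vanishes. -/
lemma cls_eq_zero_of_cobound {E : DRing.Cx A} {p : ℤ} {N : ModuleCat.{u} A} (h : Cocyc E p N)
    (g : E.X (-p + 1) →ₗ[A] N) (hg : g ∘ₗ (E.d (-p) (-p + 1)).hom = h.1) : cls h = 0 := by
  let φ : ∀ i j : ℤ, (ComplexShape.up ℤ).Rel j i →
      (E.X i ⟶ ((HomologicalComplex.single _ (ComplexShape.up ℤ) (-p)).obj N).X j) := fun i j hij =>
    if hj : j = -p then
      eqToHom (by have : j + 1 = i := hij; rw [show i = -p + 1 by lia]) ≫ ModuleCat.ofHom g ≫
        (HomologicalComplex.singleObjXSelf (ComplexShape.up ℤ) (-p) N).inv ≫ eqToHom (by rw [hj])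
    else 0
  have : cocycMap h = Homotopy.nullHomotopicMap' φ := by
    apply HomologicalComplex.to_single_hom_ext
    rw [Homotopy.nullHomotopicMap'_f (show (ComplexShape.up ℤ).Rel (-p - 1) (-p) from by simp)
      (show (ComplexShape.up ℤ).Rel (-p) (-p + 1) from rfl), HomologicalComplex.single_obj_d,
      comp_zero, add_zero, cocycMap_f]
    simp only [φ, dif_pos, eqToHom_refl, Category.id_comp, Category.comp_id]
    rw [← Category.assoc]
    refine congrArg (· ≫ _) (ModuleCat.hom_ext ?_)
    exact hg.symm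
  rw [cls, this, DerivedCategory.Q_map_eq_of_homotopy _ (Homotopy.nullHomotopy' φ), Functor.map_zero,
    zero_comp]

/-- If precomposed injections stay injective on `Hom(K, -[p])`, the image of the differential out of
degree `-p` of a projective representative has projective cokernel. -/
lemma projective_opcycles {E : DRing.Cx A} {K : Dual.D A} (e : DRing.toD E ≅ K) (p : ℤ) (b : ℤ)
    (hb : ∀ i, b < i → IsZero (E.X i)) (hE : ∀ i, Module.Projective A (E.X i))
    (h : ∀ (M M' : Type u) [AddCommGroup M] [Module A M] [AddCommGroup M'] [Module A M'] (g : M →ₗ[A] M'),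
      Function.Injective g → Function.Injective (fun x : K ⟶ (shiftFunctor (Dual.D A) p).obj (Dual.inD A M) =>
        x ≫ (shiftFunctor (Dual.D A) p).map
          ((DerivedCategory.singleFunctor (ModuleCat.{u} A) 0).map (ModuleCat.ofHom g)))) :
    Module.Projective A (E.X (-p + 1) ⧸ LinearMap.range (E.d (-p) (-p + 1)).hom) := by
  let d := (E.d (-p) (-p + 1)).hom
  let B := LinearMap.range d
  let N : ModuleCat.{u} A := ModuleCat.of A B
  have hc : d.rangeRestrict ∈ Cocyc E p N := by
    rw [mem_cocyc]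
    refine LinearMap.ext fun x => Subtype.ext ?_
    exact LinearMap.congr_fun (congrArg ModuleCat.Hom.hom (E.d_comp_d (-p - 1) (-p) (-p + 1))) x
  have h0 : cls (⟨d.rangeRestrict, hc⟩ : Cocyc E p N) = 0 := by
    rw [← cancel_epi e.inv, comp_zero]
    refine h B (E.X (-p + 1)) B.subtype B.subtype_injective ?_
    show (e.inv ≫ cls (⟨d.rangeRestrict, hc⟩ : Cocyc E p N)) ≫ _ = 0 ≫ _
    rw [zero_comp, Category.assoc]
    have hcomp : cls (⟨d.rangeRestrict, hc⟩ : Cocyc E p N) ≫ (shiftFunctor (Dual.D A) p).map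
        ((DerivedCategory.singleFunctor (ModuleCat.{u} A) 0).map (ModuleCat.ofHom B.subtype)) = 0 := by
      rw [cls_comp]
      exact cls_eq_zero_of_cobound _ LinearMap.id rfl
    exact (congrArg (e.inv ≫ ·) hcomp).trans comp_zero
  obtain ⟨g, hg⟩ := cls_eq_zero_imp b hb hE _ h0
  have hgB : ∀ x : B, g x = x := by
    rintro ⟨_, y, rfl⟩
    exact LinearMap.congr_fun hg y
  haveI := hE (-p + 1)
  refine Module.Projective.of_split (B.liftQ (LinearMap.id - B.subtype ∘ₗ g) ?_) B.mkQ ?_
  · intro x hx
    show x - (g x : E.X (-p + 1)) = 0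
    rw [hgB ⟨x, hx⟩, sub_self]
  · refine Submodule.linearMap_qext _ (LinearMap.ext fun x => ?_)
    show B.mkQ (x - g x) = B.mkQ x
    rw [map_sub, sub_eq_self]
    exact (Submodule.Quotient.mk_eq_zero _).2 (g x).2

/-- The truncation of a representative represents the truncation. -/
lemma exists_truncGE_rep {P : DRing.Cx A} {K : Dual.D A} (e : DRing.toD P ≅ K) (n : ℤ) :
    Nonempty (((DerivedCategory.TStructure.t : Triangulated.TStructure (Dual.D A)).truncGE n).obj K ≅
      DRing.toD (P.truncGE n)) := by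
  let t : Triangulated.TStructure (Dual.D A) := DerivedCategory.TStructure.t
  let H := fun i : ℤ => DerivedCategory.homologyFunctor (ModuleCat.{u} A) i
  haveI : t.IsGE (DRing.toD (P.truncGE n)) n :=
    inferInstanceAs (DerivedCategory.IsGE (DerivedCategory.Q.obj (P.truncGE n)) n)
  let f : K ⟶ DRing.toD (P.truncGE n) := e.inv ≫ DerivedCategory.Q.map (P.πTruncGE n)
  let u : (t.truncGE n).obj K ⟶ DRing.toD (P.truncGE n) := t.descTruncGE f n
  have hu : (t.truncGEπ n).app K ≫ u = f := t.π_descTruncGE f n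
  haveI : IsIso u := by
    rw [DerivedCategory.isIso_iff]
    intro i
    by_cases hi : n ≤ i
    · haveI := Groth.Agent.TriH.EndNilp.isIso_homology_π K (n - 1) n i (by lia) hi
      haveI : IsIso ((H i).map (DerivedCategory.Q.map (P.πTruncGE n))) := by
        rw [isIso_homologyMap_Q_iff, ← quasiIsoAt_iff_isIso_homologyMap]
        exact P.quasiIsoAt_πTruncGE n i hi
      have h1 : IsIso ((H i).map ((t.truncGEπ n).app K) ≫ (H i).map u) := by
        rw [← Functor.map_comp, hu]
        show IsIso ((H i).map (e.inv ≫ DerivedCategory.Q.map (P.πTruncGE n)))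
        rw [Functor.map_comp]
        infer_instance
      exact IsIso.of_isIso_comp_left ((H i).map ((t.truncGEπ n).app K)) _
    · refine isIso_of_source_target_iso_zero _ ?_ ?_
      · exact (Groth.Agent.TriH.EndNilp.isZero_homology_truncGE K n i (by lia)).isoZero
      · exact (DerivedCategory.isZero_of_isGE (DerivedCategory.Q.obj (P.truncGE n)) n i (by lia)).isoZero
  exact ⟨asIso u⟩

/-- Main splitting lemma. -/
theorem split_of_projective_opcycles {P : DRing.Cx A} {K : Dual.D A} (e : DRing.toD P ≅ K) (a b : ℤ)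
    (hb : ∀ i, b < i → IsZero (P.X i)) (hP : ∀ i, Module.Projective A (P.X i))
    (hq : Module.Projective A (P.X (a + 1) ⧸ LinearMap.range (P.d a (a + 1)).hom)) :
    (((DerivedCategory.TStructure.t : Triangulated.TStructure (Dual.D A)).triangleLEGE a (a + 1) rfl).obj K).mor₃ = 0 ∧
      ∃ (Q : DRing.Cx A) (b : ℤ), DRing.VanishesOutside Q (a + 1) b ∧ (∀ i : ℤ, Module.Projective A (Q.X i)) ∧
        Nonempty (DRing.toD Q ≅
          ((DerivedCategory.TStructure.t : Triangulated.TStructure (Dual.D A)).truncGE (a + 1)).obj K) := by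
  let t : Triangulated.TStructure (Dual.D A) := DerivedCategory.TStructure.t
  let Q := P.truncGE (a + 1)
  have hQ : ∀ i, Module.Projective A (Q.X i) := fun i => by
    rcases lt_trichotomy i (a + 1) with h | rfl | h
    · haveI : Subsingleton (Q.X i) :=
        ModuleCat.subsingleton_of_isZero (Q.isZero_of_isStrictlyGE (a + 1) i h)
      infer_instance
    · refine Module.Projective.of_equiv (R := A) (S := A) (σ := RingHom.id A) (σ' := RingHom.id A)
        (M := P.X (a + 1) ⧸ LinearMap.range (P.d a (a + 1)).hom) ?_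
      exact ((ModuleCat.cokernelIsoRangeQuotient (P.d a (a + 1))).symm ≪≫
        (colimit.isColimit _).coconePointUniqueUpToIso (P.opcyclesIsCokernel a (a + 1) (by simp)) ≪≫
        (P.truncGEXIsoOpcycles (a + 1)).symm).toLinearEquiv
    · haveI := hP i
      exact Module.Projective.of_equiv (P.truncGEXIso (a + 1) i h).symm.toLinearEquiv
  have hQz : DRing.VanishesOutside Q (a + 1) (max b (a + 1)) := fun i hi => by
    rcases hi with h | h
    · exact Q.isZero_of_isStrictlyGE (a + 1) i h
    · exact (hb i (by lia)).of_iso (P.truncGEXIso (a + 1) i (by lia))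
  obtain ⟨u⟩ := exists_truncGE_rep e (a + 1)
  refine ⟨?_, Q, max b (a + 1), hQz, hQ, ⟨u.symm⟩⟩
  let L1 := ((t.truncLE a).obj K)⟦(1 : ℤ)⟧
  haveI : DerivedCategory.IsLE L1 (a - 1) :=
    t.isLE_shift ((t.truncLE a).obj K) a 1 (a - 1) (by lia)
  obtain ⟨F, hF, ⟨eF⟩⟩ := DerivedCategory.exists_iso_Q_obj_of_isLE L1 (a - 1)
  let w : (t.truncGE (a + 1)).obj K ⟶ L1 := ((t.triangleLEGE a (a + 1) rfl).obj K).mor₃
  show w = 0
  obtain ⟨φ, hφ⟩ := exists_Q_map_eq (P := PR A) (PR.lift A) Q hQ (max b (a + 1))
    (fun i hi => hQz i (Or.inr hi)) F (u.inv ≫ w ≫ eF.hom)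
  have hφ0 : φ = 0 := HomologicalComplex.hom_ext _ _ fun i => by
    by_cases hi : i < a + 1
    · exact (hQz i (Or.inl hi)).eq_of_src _ _
    · exact (F.isZero_of_isStrictlyLE (a - 1) i (by lia)).eq_of_tgt _ _
  rw [hφ0, Functor.map_zero] at hφ
  have := congrArg (fun f => u.hom ≫ f ≫ eF.inv) hφ
  simpa using this.symm

end Groth.Agent.TwoTerm
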