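import Groth.Agent.DRingPC.Ext
import Mathlib.Algebra.Homology.DerivedCategory.KInjective
import Mathlib.CategoryTheory.Abelian.Injective.Extend
import Mathlib.CategoryTheory.Abelian.Injective.Resolution
import Mathlib.Algebra.Category.ModuleCat.EnoughInjectives

/-!
`Ext^1` out of a complex in degrees `≤ 0` through cocycles: no projectivity is needed for the
vanishing criterion, and only projectivity of the degree `0` term for surjectivity.
-/

set_option autoImplicit false
set_option linter.style.haveILetI false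
universe u

open CategoryTheory CategoryTheory.Limits Groth.Agent.PCohLib Groth.Agent.DRingPC HomologicalComplex

attribute [local instance] HasDerivedCategory.standard

namespace Groth.Agent.TwoTerm

variable {A : Type u} [CommRing A]

section Resolution

variable {N : ModuleCat.{u} A} (R : InjectiveResolution N)

/-- An injective resolution placed in degrees `≥ -1`. -/
noncomputable def J : DRing.Cx A := R.cocomplex.extend (ComplexShape.embeddingUpIntGE (-1))

/-- The degree `-1 + k` term. -/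
noncomputable def JXIso (n : ℤ) (k : ℕ) (h : -1 + (k : ℤ) = n) : (J R).X n ≅ R.cocomplex.X k :=
  extendXIso _ _ h

lemma J_isZero (i : ℤ) (hi : i < -1) : IsZero ((J R).X i) :=
  isZero_extend_X _ _ _ fun k hk => by
    simp only [ComplexShape.embeddingUpIntGE_f] at hk
    lia

instance : (J R).IsKInjective := by
  haveI : (J R).IsStrictlyGE (-1) := (CochainComplex.isStrictlyGE_iff _ _).2 (J_isZero R)
  haveI : ∀ n, Injective ((J R).X n) := fun n => by
    by_cases hn : -1 ≤ n
    · obtain ⟨k, hk⟩ := Int.eq_ofNat_of_zero_le (show 0 ≤ n + 1 by lia)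
      exact Injective.of_iso (JXIso R n k (by lia)).symm inferInstance
    · exact IsZero.injective (J_isZero R n (by lia))
  exact CochainComplex.isKInjective_of_injective _ (-1)

/-- The quasi-isomorphism from `N` in degree `-1`. -/
noncomputable def μ : (single (ModuleCat.{u} A) (ComplexShape.up ℤ) (-1)).obj N ⟶ J R :=
  (extendSingleIso (ComplexShape.embeddingUpIntGE (-1)) N 0 (-1) (by simp)).inv ≫
    ((ComplexShape.embeddingUpIntGE (-1)).extendFunctor (ModuleCat.{u} A)).map R.ι

instance : QuasiIso (μ R) := by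
  haveI : QuasiIso (extendMap R.ι (ComplexShape.embeddingUpIntGE (-1))) := inferInstance
  exact quasiIso_comp _ (extendMap R.ι (ComplexShape.embeddingUpIntGE (-1)))

/-- The augmentation in degree `-1`. -/
noncomputable def μ₁ : N ⟶ (J R).X (-1) :=
  (singleObjXSelf (ComplexShape.up ℤ) (-1) N).inv ≫ (μ R).f (-1)

lemma μ_f : (μ R).f (-1) = (singleObjXSelf (ComplexShape.up ℤ) (-1) N).hom ≫ μ₁ R := by
  simp [μ₁]

lemma μ₁_eq : μ₁ R = R.ι.f 0 ≫ (JXIso R (-1) 0 (by simp)).inv := by
  change (singleObjXSelf (ComplexShape.up ℤ) (-1) N).inv ≫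
    ((extendSingleIso (ComplexShape.embeddingUpIntGE (-1)) N 0 (-1) (by simp)).inv.f (-1) ≫
      (extendMap R.ι (ComplexShape.embeddingUpIntGE (-1))).f (-1)) = _
  rw [extendMap_f _ _ (show (ComplexShape.embeddingUpIntGE (-1)).f 0 = -1 by simp),
    extendSingleIso_inv_f]
  simp [JXIso]
  rfl

instance : Mono (μ₁ R) := by
  rw [μ₁_eq]
  constructor
  intro Z a b e
  refine Fork.IsLimit.hom_ext R.isLimitKernelFork ?_
  exact (cancel_mono (JXIso R (-1) 0 (by simp)).inv).1
    ((Category.assoc _ _ _).trans (e.trans (Category.assoc _ _ _).symm))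

lemma exists_factor_μ₁ {X : ModuleCat.{u} A} (k : X ⟶ (J R).X (-1)) (hk : k ≫ (J R).d (-1) 0 = 0) :
    ∃ g : X ⟶ N, g ≫ μ₁ R = k := by
  have hd : (J R).d (-1) 0 = (JXIso R (-1) 0 (by simp)).hom ≫ R.cocomplex.d 0 1 ≫
      (JXIso R 0 1 (by simp)).inv :=
    extend_d_eq _ _ _ _
  have hk' : (k ≫ (JXIso R (-1) 0 (by simp)).hom) ≫ R.cocomplex.d 0 1 = 0 := by
    rw [hd, ← Category.assoc, ← Category.assoc, ← cancel_mono (JXIso R 0 1 (by simp)).hom,
      zero_comp] at hk
    simpa using hk
  obtain ⟨l, hl⟩ := KernelFork.IsLimit.lift' R.isLimitKernelFork _ hk'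
  refine ⟨l, ?_⟩
  rw [μ₁_eq]
  exact (Category.assoc _ _ _).symm.trans
    ((congrArg (· ≫ (JXIso R (-1) 0 (by simp)).inv) hl).trans (by simp))

lemma J_exactAt_zero : (J R).ExactAt 0 :=
  (exactAt_iff_of_quasiIsoAt (μ R) 0).1 (exactAt_single_obj _ _ _ _ (by decide))

end Resolution

variable {E : DRing.Cx A} {N : ModuleCat.{u} A}

/-- A one-component homotopy in degrees `(0, -1)`. -/
noncomputable def homot {F : DRing.Cx A} (k : E.X 0 ⟶ F.X (-1)) :
    ∀ i j : ℤ, (ComplexShape.up ℤ).Rel j i → (E.X i ⟶ F.X j) := fun i j hij =>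
  if hj : j = -1 then
    eqToHom (by have : j + 1 = i := hij; rw [show i = 0 by lia]) ≫ k ≫ eqToHom (by rw [hj])
  else 0

lemma homot_self {F : DRing.Cx A} (k : E.X 0 ⟶ F.X (-1)) (h : (ComplexShape.up ℤ).Rel (-1) 0) :
    homot k 0 (-1) h = k := by
  simp [homot]

lemma null_f_neg_one {F : DRing.Cx A} (k : E.X 0 ⟶ F.X (-1)) :
    (Homotopy.nullHomotopicMap' (homot k)).f (-1) = E.d (-1) 0 ≫ k := by
  rw [Homotopy.nullHomotopicMap'_f (show (ComplexShape.up ℤ).Rel (-2) (-1) by simp)
    (show (ComplexShape.up ℤ).Rel (-1) 0 by simp), homot_self,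
    show homot k (-1) (-2) (by simp) = 0 from dif_neg (by decide)]
  simp

lemma null_f_zero {F : DRing.Cx A} (k : E.X 0 ⟶ F.X (-1)) :
    (Homotopy.nullHomotopicMap' (homot k)).f 0 = k ≫ F.d (-1) 0 := by
  rw [Homotopy.nullHomotopicMap'_f (show (ComplexShape.up ℤ).Rel (-1) 0 by simp)
    (show (ComplexShape.up ℤ).Rel 0 1 by simp), homot_self,
    show homot k 1 0 (by simp) = 0 from dif_neg (by decide)]
  simp

lemma Q_map_null {F : DRing.Cx A} (k : E.X 0 ⟶ F.X (-1)) :
    DerivedCategory.Q.map (Homotopy.nullHomotopicMap' (homot k)) = 0 := by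
  rw [DerivedCategory.Q_map_eq_of_homotopy _ (Homotopy.nullHomotopy' (homot k)), Functor.map_zero]

lemma cocycMap_f_one (h : Cocyc E 1 N) :
    (cocycMap h).f (-1) = ModuleCat.ofHom h.1 ≫
      (singleObjXSelf (ComplexShape.up ℤ) (-1) N).inv :=
  cocycMap_f h

/-- A class is zero iff the cocycle is a coboundary. -/
theorem cls_eq_zero_iff_one (hb : ∀ i, 0 < i → IsZero (E.X i)) (h : Cocyc E 1 N) :
    cls h = 0 ↔ ∃ g : E.X 0 ⟶ N, E.d (-1) 0 ≫ g = ModuleCat.ofHom h.1 := by
  constructor
  · intro h0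
    let R := injectiveResolution N
    rw [cls, ← zero_comp (f := (singleShiftTarget 1 N).hom), cancel_mono] at h0
    have hQ : DerivedCategory.Q.map (cocycMap h ≫ μ R) = DerivedCategory.Q.map (0 : E ⟶ J R) := by
      rw [Functor.map_zero, Functor.map_comp]
      exact (congrArg (· ≫ DerivedCategory.Q.map (μ R)) h0).trans zero_comp
    have hq : (HomotopyCategory.quotient _ _).map (cocycMap h ≫ μ R) =
        (HomotopyCategory.quotient _ _).map (0 : E ⟶ J R) := by
      refine (CochainComplex.IsKInjective.Qh_map_bijective _ (J R)).injective ?_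
      rw [← cancel_mono ((DerivedCategory.quotientCompQhIso _).hom.app _)]
      exact ((DerivedCategory.quotientCompQhIso (ModuleCat.{u} A)).hom.naturality _).trans
        ((congrArg _ hQ).trans
          ((DerivedCategory.quotientCompQhIso (ModuleCat.{u} A)).hom.naturality _).symm)
    let H := HomotopyCategory.homotopyOfEq _ _ hq
    have hc0 := H.comm 0
    rw [dNext_eq _ (show (ComplexShape.up ℤ).Rel 0 1 by simp),
      prevD_eq _ (show (ComplexShape.up ℤ).Rel (-1) 0 by simp),
      (hb 1 (by lia)).eq_of_tgt (E.d 0 1) 0, zero_comp, zero_add, zero_f, add_zero] at hc0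
    have hzero : (cocycMap h ≫ μ R).f 0 = 0 := by
      rw [comp_f]
      exact (isZero_single_obj_X _ _ _ _ (by decide)).eq_of_tgt ((cocycMap h).f 0) 0 ▸ zero_comp
    rw [hzero] at hc0
    obtain ⟨g, hg⟩ := exists_factor_μ₁ R (H.hom 0 (-1)) hc0.symm
    refine ⟨g, ?_⟩
    have hc1 := H.comm (-1)
    rw [dNext_eq _ (show (ComplexShape.up ℤ).Rel (-1) 0 by simp),
      prevD_eq _ (show (ComplexShape.up ℤ).Rel (-2) (-1) by simp),
      (J_isZero R (-2) (by lia)).eq_of_src ((J R).d (-2) (-1)) 0, comp_zero, add_zero, zero_f,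
      add_zero, comp_f, cocycMap_f_one, μ_f, Category.assoc, Iso.inv_hom_id_assoc, ← hg,
      ← Category.assoc, cancel_mono] at hc1
    exact hc1.symm
  · rintro ⟨g, hg⟩
    let k : E.X 0 ⟶ ((single (ModuleCat.{u} A) (ComplexShape.up ℤ) (-(1 : ℤ))).obj N).X (-1) :=
      g ≫ (singleObjXSelf (ComplexShape.up ℤ) (-1) N).inv
    have e : cocycMap h = Homotopy.nullHomotopicMap' (homot k) := by
      apply to_single_hom_ext
      refine (cocycMap_f_one h).trans ((congrArg (· ≫ _) hg.symm).trans ?_)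
      exact (Category.assoc _ _ _).trans (null_f_neg_one k).symm
    rw [cls, e, Q_map_null, zero_comp]

/-- Every class comes from a cocycle when the degree `0` term is projective. -/
theorem cls_surjective_one (hb : ∀ i, 0 < i → IsZero (E.X i)) (hE : Module.Projective A (E.X 0)) :
    Function.Surjective (cls (E := E) (p := (1 : ℤ)) (N := N)) := by
  intro α
  let R := injectiveResolution N
  haveI : CategoryTheory.Projective (E.X 0) := (IsProjective.iff_projective (E.X 0)).1 hE
  let α' : DerivedCategory.Q.obj E ⟶ DerivedCategory.Q.obj (J R) :=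
    (α ≫ (singleShiftTarget 1 N).inv) ≫ DerivedCategory.Q.map (μ R)
  obtain ⟨f, hf⟩ := (CochainComplex.IsKInjective.Qh_map_bijective _ (J R)).surjective
    ((DerivedCategory.quotientCompQhIso _).hom.app E ≫ α' ≫
      (DerivedCategory.quotientCompQhIso _).inv.app (J R))
  obtain ⟨φ, rfl⟩ := (HomotopyCategory.quotient _ _).map_surjective f
  have hφ : DerivedCategory.Q.map φ = α' := by
    have n := (DerivedCategory.quotientCompQhIso (ModuleCat.{u} A)).hom.naturality φ
    rw [← cancel_epi ((DerivedCategory.quotientCompQhIso _).hom.app E)]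
    refine n.symm.trans ?_
    rw [Functor.comp_map]
    exact (congrArg (· ≫ _) hf).trans (by simp)
  have h01 : φ.f 0 ≫ (J R).d 0 1 = 0 := by
    rw [φ.comm, (hb 1 (by lia)).eq_of_tgt (E.d 0 1) 0, zero_comp]
  have hex := (J R).exactAt_iff' (-1) 0 1 (by simp) (by simp) |>.1 (J_exactAt_zero R)
  let k : E.X 0 ⟶ (J R).X (-1) := hex.liftFromProjective (φ.f 0) h01
  have hk : k ≫ (J R).d (-1) 0 = φ.f 0 := hex.liftFromProjective_comp _ _
  obtain ⟨h, hh⟩ := exists_factor_μ₁ R (φ.f (-1) - E.d (-1) 0 ≫ k) (by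
    rw [Preadditive.sub_comp, Category.assoc, hk, φ.comm, sub_self])
  have hcoc : h.hom ∈ Cocyc E 1 N := by
    have h1 : E.d (-2) (-1) ≫ h = 0 := by
      rw [← cancel_mono (μ₁ R), Category.assoc, hh, Preadditive.comp_sub, ← φ.comm,
        (J_isZero R (-2) (by lia)).eq_of_src ((J R).d (-2) (-1)) 0, comp_zero, zero_comp,
        E.d_comp_d_assoc, zero_comp, sub_zero]
    exact mem_cocyc.2 (congrArg ModuleCat.Hom.hom h1)
  refine ⟨⟨h.hom, hcoc⟩, ?_⟩
  have e : φ - cocycMap ⟨h.hom, hcoc⟩ ≫ μ R = Homotopy.nullHomotopicMap' (homot k) := by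
    ext i : 1
    rcases lt_trichotomy i (-1) with hi | rfl | hi
    · exact (J_isZero R i hi).eq_of_tgt _ _
    · rw [sub_f_apply, comp_f, null_f_neg_one, μ_f]
      refine sub_eq_iff_eq_add.2 ?_
      rw [← Category.assoc]
      change _ = _ + ((cocycMap (p := 1) ⟨h.hom, hcoc⟩).f (-1) ≫ _) ≫ μ₁ R
      rw [cocycMap_f_one, Category.assoc (ModuleCat.ofHom _), Iso.inv_hom_id, Category.comp_id]
      exact (eq_add_of_sub_eq hh.symm).trans (add_comm _ _)
    · rcases (show (0 : ℤ) ≤ i by lia).eq_or_lt with rfl | hi'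
      · rw [sub_f_apply, comp_f, null_f_zero, hk,
          (isZero_single_obj_X _ _ _ _ (by decide)).eq_of_tgt ((cocycMap ⟨h.hom, hcoc⟩).f 0) 0,
          zero_comp, sub_zero]
      · exact (hb i hi').eq_of_src _ _
  have hQ : DerivedCategory.Q.map φ = DerivedCategory.Q.map (cocycMap ⟨h.hom, hcoc⟩) ≫
      DerivedCategory.Q.map (μ R) := by
    have := congrArg DerivedCategory.Q.map e
    rwa [Q_map_null, Functor.map_sub, sub_eq_zero, Functor.map_comp] at this
  rw [hφ] at hQ
  rw [cls, ← (cancel_mono (DerivedCategory.Q.map (μ R))).1 hQ, Category.assoc, Iso.inv_hom_id,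
    Category.comp_id]

/-- Functoriality of classes in the complex. -/
theorem map_comp_cls {M : DRing.Cx A} (a : M ⟶ E) (h : Cocyc E 1 N) (h' : Cocyc M 1 N)
    (e : a.f (-1) ≫ ModuleCat.ofHom h.1 = ModuleCat.ofHom h'.1) :
    DerivedCategory.Q.map a ≫ cls h = cls h' := by
  have : a ≫ cocycMap h = cocycMap h' := by
    apply to_single_hom_ext
    rw [comp_f]
    refine ((congrArg (a.f (-1) ≫ ·) (cocycMap_f_one h)).trans ?_).trans (cocycMap_f_one h').symm
    rw [← Category.assoc]
    exact congrArg (· ≫ _) e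
  rw [cls, cls, ← this, Functor.map_comp, Category.assoc]

end Groth.Agent.TwoTerm
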